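import Groth.Agent.Sga4A.QS
import Groth.Agent.Sga4A.QCLocal
import Groth.Agent.Sga4A.FinCoprod

/-!
# Quasi-compact and quasi-separated morphisms out of a coproduct in a sheaf topos

* `isQCHom_inj` : the inclusion of a summand is quasi-compact (and a monomorphism).
* `isQCHom_cofan_iff`, `isQSHom_cofan_iff`.
-/

set_option autoImplicit false
open CategoryTheory CategoryTheory.Limits Opposite
universe w u

namespace K223.Cop

open ToposFin Groth.Agent.Sga4A.QC Groth.Agent.Sga4A.QCLocal Groth.Agent.Sga4A.QS

variable {C : Type u} [SmallCategory C] {J : GrothendieckTopology C}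

theorem js_iff_locSurj {ι : Type w} {X : Sh J} {F : ι → Sh J} (π : ∀ i, F i ⟶ X) :
    JS π ↔ Groth.Agent.Sga4A.FinBase.LocSurj π := by
  rw [← Groth.Agent.Sga4A.FinBase.jointEpi_iff_locSurj, js_iff_epiFamily]
  rfl

theorem js_inj {ι : Type w} {X : ι → Sh J} {c : Cofan X} (hc : IsColimit c) : JS c.inj := by
  rw [js_iff_epiFamily]
  intro Z a b hab
  exact Cofan.IsColimit.hom_ext hc _ _ hab

section

variable {ι : Type u} {X : ι → Sh J} {c : Cofan X} (hc : IsColimit c)
include hc

/-- Coproduct inclusions are monomorphisms. -/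
theorem mono_inj (i : ι) : Mono (c.inj i) := by
  have := Groth.Agent.Sga4A.FinCoprod.mono_sigma_ι X i
  have e : c.inj i = Sigma.ι X i ≫ ((coproductIsCoproduct X).coconePointUniqueUpToIso hc).hom := by
    have := (coproductIsCoproduct X).comp_coconePointUniqueUpToIso_hom hc ⟨i⟩
    exact this.symm
  rw [e]
  infer_instance

/-- Coproduct inclusions are quasi-compact. -/
theorem isQCHom_inj (i : ι) : IsQCHom (c.inj i) := by
  have e : c.inj i = Sigma.ι X i ≫ ((coproductIsCoproduct X).coconePointUniqueUpToIso hc).hom := by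
    have := (coproductIsCoproduct X).comp_coconePointUniqueUpToIso_hom hc ⟨i⟩
    exact this.symm
  rw [e]
  refine isQCHom_comp ?_ (isQCHom_of_isIso _)
  intro Y a hY
  exact Groth.Agent.Sga4A.FinCoprod.isQC_pullback_sigma_ι a hY i

/-- A morphism out of a coproduct is quasi-separated if and only if its components are. -/
theorem isQSHom_cofan_iff {Y : Sh J} (f : c.pt ⟶ Y) :
    IsQSHom f ↔ ∀ i, IsQSHom (c.inj i ≫ f) := by
  constructor
  · intro h i
    have := mono_inj hc i
    exact isQSHom_comp (isQSHom_of_mono _) h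
  · intro h T t hT
    obtain ⟨s, hs⟩ := exists_finset_js hT ((js_inj hc).pullback_snd (t ≫ pullback.fst f f))
    have hQ := hs.pullback_snd (pullback.snd (pullback.diagonal f) t)
    -- the maps `X_i ×_Y X_i ⟶ X ×_Y X`
    let m (i : ι) : pullback (c.inj i ≫ f) (c.inj i ≫ f) ⟶ pullback f f :=
      pullback.map (c.inj i ≫ f) (c.inj i ≫ f) f f (c.inj i) (c.inj i) (𝟙 Y) (by simp) (by simp)
    have hm (i : ι) : IsQCHom (m i) :=
      MorphismProperty.pullbackMap (P := QCH J) (f := c.inj i ≫ f) (g := c.inj i ≫ f)
        (f' := f) (g' := f) (i₁ := c.inj i) (i₂ := c.inj i) (isQCHom_inj hc i) (isQCHom_inj hc i) rfl rfl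
    have h2 (i : ι) : IsQC (pullback (pullback.diagonal (c.inj i ≫ f)) (pullback.fst (m i) t)) :=
      h i _ _ (hm i _ t hT)
    have hD (i : ι) : pullback.diagonal (c.inj i ≫ f) ≫ m i = c.inj i ≫ pullback.diagonal f := by
      apply pullback.hom_ext
      · simp only [m, Category.assoc, pullback.lift_fst, pullback.diagonal_fst, Category.comp_id,
          pullback.diagonal_fst_assoc]
      · simp only [m, Category.assoc, pullback.lift_snd, pullback.diagonal_snd, Category.comp_id,
          pullback.diagonal_snd_assoc]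
    have w1 (i : ι) : (pullback.fst (pullback.diagonal (c.inj i ≫ f)) (pullback.fst (m i) t) ≫ c.inj i) ≫
        pullback.diagonal f =
        (pullback.snd (pullback.diagonal (c.inj i ≫ f)) (pullback.fst (m i) t) ≫ pullback.snd (m i) t) ≫ t := by
      rw [Category.assoc, Category.assoc, ← hD i, ← pullback.condition, ← Category.assoc,
        pullback.condition, Category.assoc]
    let v (i : ι) : pullback (pullback.diagonal (c.inj i ≫ f)) (pullback.fst (m i) t) ⟶
        pullback (pullback.diagonal f) t := pullback.lift _ _ (w1 i)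
    refine isQC_of_finite_js (ι := s) (π := fun i => v i) ?_ (fun i => h2 i)
    refine hQ.of_factors fun i => ⟨i, ?_⟩
    have e1 : pullback.snd (pullback.diagonal f) t ≫ t ≫ pullback.fst f f =
        pullback.fst (pullback.diagonal f) t := by
      rw [← Category.assoc, ← pullback.condition, Category.assoc, pullback.diagonal_fst, Category.comp_id]
    let a := pullback.fst (pullback.snd (c.inj (i : ι)) (t ≫ pullback.fst f f))
      (pullback.snd (pullback.diagonal f) t) ≫ pullback.fst (c.inj (i : ι)) (t ≫ pullback.fst f f)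
    let b := pullback.snd (pullback.snd (c.inj (i : ι)) (t ≫ pullback.fst f f))
      (pullback.snd (pullback.diagonal f) t)
    have e2 : a ≫ c.inj (i : ι) = b ≫ pullback.fst (pullback.diagonal f) t := by
      rw [← e1]
      simp only [a, b, Category.assoc]
      rw [pullback.condition, ← Category.assoc, ← Category.assoc, pullback.condition, Category.assoc,
        Category.assoc]
    have e3 : (a ≫ pullback.diagonal (c.inj (i : ι) ≫ f)) ≫ m i = (b ≫ pullback.snd (pullback.diagonal f) t) ≫ t := by
      rw [Category.assoc, hD, ← Category.assoc, e2, Category.assoc, pullback.condition, Category.assoc]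
    refine ⟨pullback.lift a (pullback.lift _ _ e3) ?_, ?_⟩
    · rw [pullback.lift_fst]
    · apply pullback.hom_ext
      · simp only [v, Category.assoc, pullback.lift_fst, pullback.lift_fst_assoc]
        exact e2
      · simp only [v, Category.assoc, pullback.lift_snd, pullback.lift_snd_assoc]
        rfl

end

/-- Reindexing a finite coproduct to a small index type. -/
def ulCofan {n : ℕ} {X : Fin n → Sh J} (c : Cofan X) : Cofan (fun i : ULift.{u} (Fin n) => X i.down) :=
  Cofan.mk c.pt (fun i => c.inj i.down)

/-- The reindexed cofan is a colimit. -/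
noncomputable def isColimitUlCofan {n : ℕ} {X : Fin n → Sh J} {c : Cofan X} (hc : IsColimit c) :
    IsColimit (ulCofan c) :=
  Cofan.IsColimit.mk _ (fun s => Cofan.IsColimit.desc hc (fun i => s.inj ⟨i⟩))
    (fun s j => Cofan.IsColimit.fac hc _ _)
    (fun s m hm => Cofan.IsColimit.hom_ext hc _ _ (fun i =>
      (hm ⟨i⟩).trans (Cofan.IsColimit.fac hc (fun i => s.inj ⟨i⟩) i).symm))

/-- A morphism out of a finite coproduct is quasi-compact if and only if its components are. -/
theorem isQCHom_cofan_iff {n : ℕ} {X : Fin n → Sh J} {c : Cofan X} (hc : IsColimit c) {Y : Sh J}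
    (f : c.pt ⟶ Y) : IsQCHom f ↔ ∀ i, IsQCHom (c.inj i ≫ f) := by
  constructor
  · intro h i
    exact isQCHom_comp (isQCHom_inj (isColimitUlCofan hc) ⟨i⟩) h
  · intro h
    exact isQCHom_of_finite_cover_of_source f (js_inj hc) h

/-- A morphism out of a finite coproduct is quasi-separated if and only if its components are. -/
theorem isQSHom_cofan_fin_iff {n : ℕ} {X : Fin n → Sh J} {c : Cofan X} (hc : IsColimit c) {Y : Sh J}
    (f : c.pt ⟶ Y) : IsQSHom f ↔ ∀ i, IsQSHom (c.inj i ≫ f) := by
  refine (isQSHom_cofan_iff (isColimitUlCofan hc) f).trans ⟨fun h i => h ⟨i⟩, fun h i => h i.down⟩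

end K223.Cop
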