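import Groth.Agent.ToposFin.K223.Eps
import Groth.Agent.S3060
import Mathlib.CategoryTheory.Presentable.StrongGenerator
import Mathlib.CategoryTheory.Presentable.Finite

/-!
# Finitely presentable objects of a sheaf topos with coherent generators

* `isFP_iff` : `ToposFin.IsFP X` is Mathlib's `IsFinitelyPresentable.{u} X`.
* `exists_filtered_colimit` : if the topos has a generating family of coherent objects, then every object is a
  small filtered colimit of objects `K` with `IsFP K`.
-/

set_option autoImplicit false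
open CategoryTheory CategoryTheory.Limits Opposite
universe w u

namespace K223.LFP

open ToposFin Groth.Agent.Sga4A.QC Groth.Agent.Sga4A.QCLocal Groth.Agent.Sga4A.QS Groth.Agent.Sga4A

variable {C : Type u} [SmallCategory C] {J : GrothendieckTopology C}

theorem isFP_iff (X : Sh J) : IsFP X ↔ IsFinitelyPresentable.{u} X := by
  rw [isFinitelyPresentable_iff_preservesFilteredColimitsOfSize]
  constructor
  · intro h
    refine ⟨fun I _ _ => ⟨fun {D} => ?_⟩⟩
    have : IsIso (colimit.post D (coyoneda.obj (op X))) := by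
      rw [isIso_iff_bijective]
      exact h I D
    exact preservesColimit_of_isIso_post _ _
  · intro h I _ _ D
    have : PreservesColimitsOfShape I (coyoneda.obj (op X)) := h.1 I
    rw [← isIso_iff_bijective]
    infer_instance

variable (J) in
/-- Small choice of coherent generators. -/
theorem exists_small_generator (hE : HasCoherentGenerators J) :
    ∃ (ι : Type u) (F : ι → Sh J), (∀ i, IsCoherent (F i)) ∧
      (ObjectProperty.ofObj F).IsStrongGenerator := by
  choose ι F π hF hπ using fun U : C => hE (eps J U)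
  refine ⟨Σ U, ι U, fun p => F p.1 p.2, fun p => hF _ _, ?_⟩
  refine ObjectProperty.IsStrongGenerator.mk_of_exists_extremalEpi.{u} fun X => ?_
  have h1 : JS (fun q : (Σ p : (Σ V : C, X.obj.obj (op V)), ι p.1) =>
      π q.1.1 q.2 ≫ (EpsHom.ofSect q.1.2 : eps J q.1.1 ⟶ X)) :=
    (EpsHom.js_ofSect X).comp (fun p => (js_iff_epi _).2 (hπ p.1))
  refine ⟨(Σ p : (Σ V : C, X.obj.obj (op V)), ι p.1), fun q => F q.1.1 q.2,
    fun q => ObjectProperty.ofObj_apply (fun p : (Σ U, ι U) => F p.1 p.2) ⟨q.1.1, q.2⟩, _, coproductIsCoproduct _, Sigma.desc (fun q => π q.1.1 q.2 ≫ EpsHom.ofSect q.1.2), ?_⟩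
  have h2 : Epi (Sigma.desc (fun q : (Σ p : (Σ V : C, X.obj.obj (op V)), ι p.1) =>
      π q.1.1 q.2 ≫ (EpsHom.ofSect q.1.2 : eps J q.1.1 ⟶ X))) := (js_iff_epi _).1 h1
  have : StrongEpi (Sigma.desc (fun q : (Σ p : (Σ V : C, X.obj.obj (op V)), ι p.1) =>
      π q.1.1 q.2 ≫ (EpsHom.ofSect q.1.2 : eps J q.1.1 ⟶ X))) := by
    have : IsRegularEpi (Sigma.desc (fun q : (Σ p : (Σ V : C, X.obj.obj (op V)), ι p.1) =>
      π q.1.1 q.2 ≫ (EpsHom.ofSect q.1.2 : eps J q.1.1 ⟶ X))) := IsRegularEpiCategory.regularEpiOfEpi _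
    infer_instance
  infer_instance

/-- Every object is a small filtered colimit of finitely presentable ones. -/
theorem exists_filtered_colimit (hE : HasCoherentGenerators J) (X : Sh J) :
    ∃ (I : Type u) (_ : SmallCategory I) (_ : IsFiltered I) (D : I ⥤ Sh J),
      (∀ i, IsFP (D.obj i)) ∧ Nonempty (X ≅ colimit D) := by
  have hE' : HasQCGenerators J := fun Y => by
    obtain ⟨ι, F, π, hF, hπ⟩ := hE Y
    exact ⟨ι, F, π, fun i => (hF i).1, hπ⟩
  obtain ⟨ι, F, hF, hS⟩ := exists_small_generator J hE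
  have : Fact (Cardinal.IsRegular.{u} Cardinal.aleph0) := ⟨Cardinal.isRegular_aleph0⟩
  have hP : ObjectProperty.ofObj F ≤ isCardinalPresentable (Sh J) Cardinal.aleph0.{u} := by
    rintro _ ⟨i⟩
    exact (isFP_iff _).1 (fun I _ _ D => Groth.Agent.S3060.result hE' _ (hF i) I D)
  have := hS.isDense_colimitsCardinalClosure_ι hP
  have h1 := IsCardinalFilteredGenerator.of_isDense_ι
    ((ObjectProperty.ofObj F).colimitsCardinalClosure Cardinal.aleph0.{u}) Cardinal.aleph0.{u}
    (ObjectProperty.colimitsCardinalClosure_le_isCardinalPresentable _ hP)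
  obtain ⟨I, _, hI, ⟨h⟩⟩ := h1.exists_colimitsOfShape X
  refine ⟨I, inferInstance, (isCardinalFiltered_aleph0_iff I).1 hI, h.diag, fun i => ?_, ⟨?_⟩⟩
  · rw [isFP_iff]
    exact h1.le_isCardinalPresentable _ (h.prop_diag_obj i)
  · exact h.isColimit.coconePointUniqueUpToIso (colimit.isColimit _)

end K223.LFP
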