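import Groth.Agent.ToposFin.K223.Lex
import Groth.Agent.S3069

/-!
# Quasi-separated objects over the sheaf attached to an object of the site
-/

set_option autoImplicit false
open CategoryTheory CategoryTheory.Limits Opposite
universe w u

namespace K223.Eps

open ToposFin Groth.Agent.Sga4A.QC Groth.Agent.Sga4A.QCLocal Groth.Agent.Sga4A.QS Groth.Agent.Sga4A

variable {C : Type u} [SmallCategory C] {J : GrothendieckTopology C}

variable (J) in
/-- The functor `X ↦ eps J X`. -/
noncomputable abbrev epsF : C ⥤ Sh J := yoneda ⋙ presheafToSheaf J (Type u)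

/-- The sheaves `eps J X` form a generating set. -/
theorem js_ofSect_eps (Y : Sh J) :
    JS (fun p : (Σ V : C, Y.obj.obj (op V)) => (EpsHom.ofSect p.2 : eps J p.1 ⟶ Y)) := EpsHom.js_ofSect Y

theorem isGenerating_eps : IsGenerating (Set.range (fun X : C => eps J X)) := by
  intro Y
  exact ⟨(Σ V : C, Y.obj.obj (op V)), fun p => eps J p.1, fun p => EpsHom.ofSect p.2,
    fun p => ⟨p.1, rfl⟩, js_iff_epiFamily.1 (EpsHom.js_ofSect Y)⟩

/-- If all objects of the site are quasi-compact, then the topos has quasi-compact generators. -/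
theorem hasQCGenerators_eps (hC : ∀ X : C, IsQCSite J X) : HasQCGenerators J := by
  intro Y
  exact ⟨(Σ V : C, Y.obj.obj (op V)), fun p => eps J p.1, fun p => EpsHom.ofSect p.2,
    fun p => (Groth.Agent.S3056.result J _).1 (hC _), (js_iff_epi _).1 (EpsHom.js_ofSect Y)⟩

/-- A section which maps to the section given by an arrow. -/
theorem ofSect_comp_eq_map {X V : C} {Y : Sh J} (a : Y ⟶ eps J X) (y : Y.obj.obj (op V)) (f : V ⟶ X)
    (h : a.hom.app (op V) y = EpsSect.sect J f) :
    (EpsHom.ofSect y ≫ a : eps J V ⟶ eps J X) = (epsF J).map f := by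
  rw [EpsHom.ofSect_comp, h]
  apply EpsHom.hom_ext
  rw [EpsHom.ofSect_sect]
  change _ = ((presheafToSheaf J (Type u)).map (yoneda.map f)).hom.app (op V) (EpsSect.sect J (𝟙 V))
  rw [EpsSect.eps_map_sect, EpsSect.map_sect]

/-- Morphisms from quasi-separated objects to `eps J X` are quasi-separated. -/
theorem isQSHom_to_eps [HasPullbacks C] (hC : ∀ X : C, IsQCSite J X) {X : C} {G : Sh J}
    (g : G ⟶ eps J X) (hG : IsQS G) : IsQSHom g := by
  refine isQSHom_of_cover_with_qs_products (hasQCGenerators_eps hC) g (Groth.Agent.S3069.js_lift g)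
    (fun i => (Groth.Agent.S3056.result J _).1 (hC _)) (fun i j => ?_) hG
  have h1 : IsPullback ((epsF J).map (pullback.fst i.f j.f)) ((epsF J).map (pullback.snd i.f j.f))
      (EpsHom.ofSect i.y ≫ g) (EpsHom.ofSect j.y ≫ g) := by
    rw [ofSect_comp_eq_map g i.y i.f i.h, ofSect_comp_eq_map g j.y j.f j.h]
    exact (IsPullback.of_hasPullback i.f j.f).map (epsF J)
  have h2 : IsQS (eps J (pullback i.f j.f)) := (Groth.Agent.S3069.result J hC _).2
  exact Groth.Agent.Sga4A.FinBase.isQS_of_mono h1.isoPullback.inv h2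

end K223.Eps
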