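import Groth.Agent.Topos.H563.AlgTopos

/-!
# Inverse images of quasi-compact / quasi-separated objects; coherent objects of a locally coherent topos

* `JS.map` : a lex left adjoint (or any functor preserving jointly epimorphic families) preserves `JS` families.
* `isQC_map_of_generators`, `isQS_map_of_generators`.
* `isCoherent_of_retract` : a retract of a coherent object is coherent.
-/

set_option autoImplicit false
open CategoryTheory CategoryTheory.Limits Opposite
universe w u

namespace K223.Lex

open ToposFin Groth.Agent.Sga4A.QC Groth.Agent.Sga4A.QCLocal Groth.Agent.Sga4A.QS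
  Groth.Agent.Topos.H563.AlgTopos

variable {C : Type u} [SmallCategory C] {J : GrothendieckTopology C}
variable {D : Type u} [SmallCategory D] {K : GrothendieckTopology D}

/-- A left adjoint preserves jointly epimorphic families. -/
theorem js_map (F : Sh K ⥤ Sh J) (R : Sh J ⥤ Sh K) (adj : F ⊣ R) {ι : Type w} {X : Sh K} {G : ι → Sh K}
    {π : ∀ i, G i ⟶ X} (h : JS π) : JS (fun i => F.map (π i)) := by
  rw [js_iff_epiFamily]
  intro Z a b hab
  apply (adj.homEquiv _ _).injective
  apply h.hom_ext
  intro i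
  rw [← Adjunction.homEquiv_naturality_left, ← Adjunction.homEquiv_naturality_left, hab i]

/-- Quasi-compactness of the inverse image functor is tested on a generating set. -/
theorem isQC_map (F : Sh K ⥤ Sh J) (R : Sh J ⥤ Sh K) (adj : F ⊣ R) {S : Set (Sh K)}
    (hgen : IsGenerating S) (hF : ∀ X ∈ S, IsQC (F.obj X)) {X : Sh K} (hX : IsQC X) : IsQC (F.obj X) := by
  obtain ⟨ι, _, G, π, hG, hπ⟩ := exists_finite_js hgen hX
  exact isQC_of_finite_js (js_map F R adj hπ) (fun i => hF _ (hG i))

/-- A retract of a coherent object is coherent. -/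
theorem isCoherent_of_retract {X Y : Sh J} (i : X ⟶ Y) (p : Y ⟶ X) (h : i ≫ p = 𝟙 X) (hY : IsCoherent Y) :
    IsCoherent X := by
  have : IsSplitEpi p := ⟨⟨⟨i, h⟩⟩⟩
  have : IsSplitMono i := ⟨⟨⟨p, h⟩⟩⟩
  exact ⟨isQC_of_epi p hY.1, Groth.Agent.Sga4A.FinBase.isQS_of_mono i hY.2⟩

/-- A coherent morphism with coherent target has coherent source. -/
theorem isCoherent_of_isCohHom {X Y : Sh J} (f : X ⟶ Y) (hf : IsCohHom f) (hY : IsCoherent Y) :
    IsCoherent X :=
  ⟨isQC_of_isPullback hf.1 (IsPullback.of_horiz_isIso ⟨by simp⟩ : IsPullback (𝟙 X) f f (𝟙 Y)) hY.1,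
    Groth.Agent.Sga4A.FinBase.isQS_of_isQSHom f hf.2 hY.2⟩

/-- The quasi-separatedness of the source of a morphism to a member of a generating set `S` of quasi-compact
objects stable under fibre products implies that of the morphism. -/
theorem isQSHom_of_isQS_of_mem {S : Set (Sh J)} (hqc : ∀ K ∈ S, IsQC K) (hgen : IsGenerating S)
    (hpb : ClosedUnderPullbacks S) {X Y : Sh J} (f : X ⟶ Y) (hX : IsQS X) (hY : Y ∈ S) : IsQSHom f := by
  obtain ⟨ι, F, π, hF, hπ⟩ := exists_js hgen X
  refine isQSHom_of_cover_with_qs_products (hasQCGenerators hqc hgen) f hπ (fun i => hqc _ (hF i))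
    (fun i j => ?_) hX
  obtain ⟨P, p, q, hP, h⟩ := hpb (π i ≫ f) (π j ≫ f) (hF i) (hF j) hY
  have h1 := (isCoherent_of_mem hqc hgen hpb hP).2
  exact Groth.Agent.Sga4A.FinBase.isQS_of_mono h.isoPullback.inv h1

end K223.Lex
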