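import Groth.Agent.ToposFin.K223.Lex
import Groth.Agent.S3072

/-!
# Coequalizer presentations of coherent objects
-/

set_option autoImplicit false
open CategoryTheory CategoryTheory.Limits Opposite
universe w u

namespace K223.Coeq

open ToposFin Groth.Agent.Sga4A.QC Groth.Agent.Sga4A.QCLocal Groth.Agent.Sga4A.QS
  Groth.Agent.Topos.H563.AlgTopos

variable {C : Type u} [SmallCategory C] {J : GrothendieckTopology C}

/-- An epimorphism `q : L ⟶ X` of sheaves of sets is the coequalizer of `M ⇉ L` for any epimorphism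
`M ⟶ L ×_X L`. -/
theorem nonempty_iso_coequalizer {L X M : Sh J} (q : L ⟶ X) [Epi q] (r : M ⟶ pullback q q) [Epi r] :
    Nonempty (coequalizer (r ≫ pullback.fst q q) (r ≫ pullback.snd q q) ≅ X) := by
  have : IsRegularEpi q := IsRegularEpiCategory.regularEpiOfEpi q
  have : EffectiveEpi q := inferInstance
  have w : (r ≫ pullback.fst q q) ≫ q = (r ≫ pullback.snd q q) ≫ q := by
    rw [Category.assoc, Category.assoc, pullback.condition]
  have key : ∀ {Z : Sh J} (z : L ⟶ Z), (r ≫ pullback.fst q q) ≫ z = (r ≫ pullback.snd q q) ≫ z →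
      ∀ {W : Sh J} (g₁ g₂ : W ⟶ L), g₁ ≫ q = g₂ ≫ q → g₁ ≫ z = g₂ ≫ z := by
    intro Z z hz W g₁ g₂ h12
    have h0 : pullback.fst q q ≫ z = pullback.snd q q ≫ z := by
      rw [← cancel_epi r]
      simpa using hz
    have h3 : pullback.lift g₁ g₂ h12 ≫ pullback.fst q q = g₁ := pullback.lift_fst _ _ _
    have h4 : pullback.lift g₁ g₂ h12 ≫ pullback.snd q q = g₂ := pullback.lift_snd _ _ _
    have := pullback.lift g₁ g₂ h12 ≫= h0
    rw [reassoc_of% h3, reassoc_of% h4] at this
    exact this
  have hc : IsColimit (Cofork.ofπ q w) :=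
    Cofork.IsColimit.mk _ (fun s => EffectiveEpi.desc q s.π (key s.π s.condition))
      (fun s => EffectiveEpi.fac q _ _)
      (fun s m hm => by
        rw [← cancel_epi q, EffectiveEpi.fac]
        exact hm)
  exact ⟨(colimit.isColimit _).coconePointUniqueUpToIso hc⟩

/-- A quasi-compact object is a quotient of a member of a generating class stable under finite colimits. -/
theorem exists_epi_of_mem {S : Set (Sh J)} (hgen : IsGenerating S)
    (hcolim : ∀ (K : Type) [SmallCategory K] [FinCategory K] (D : K ⥤ Sh J),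
      (∀ k, D.obj k ∈ S) → colimit D ∈ S) {X : Sh J} (hX : IsQC X) :
    ∃ (L : Sh J) (q : L ⟶ X), L ∈ S ∧ Epi q := by
  obtain ⟨ι, _, F, π, hF, hπ⟩ := exists_finite_js hgen hX
  obtain ⟨n, ⟨e⟩⟩ := Finite.exists_equiv_fin ι
  have h1 : JS (fun k : Fin n => π (e.symm k)) := hπ.reindex _ e.symm.surjective
  refine ⟨∐ (fun k : Fin n => F (e.symm k)), Sigma.desc (fun k : Fin n => π (e.symm k)), ?_,
    (js_iff_epi _).1 h1⟩
  exact hcolim (Discrete (Fin n)) _ (fun k => hF _)

/-- A coherent object belongs to any isomorphism-closed generating class of coherent objects which is stable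
under finite colimits. -/
theorem mem_of_isCoherent {S : Set (Sh J)} (hqc : ∀ K ∈ S, IsQC K)
    (hiso : ∀ ⦃K L : Sh J⦄, K ∈ S → Nonempty (K ≅ L) → L ∈ S)
    (hgen : IsGenerating S)
    (hcolim : ∀ (K : Type) [SmallCategory K] [FinCategory K] (D : K ⥤ Sh J),
      (∀ k, D.obj k ∈ S) → colimit D ∈ S) {X : Sh J} (hX : IsCoherent X) : X ∈ S := by
  obtain ⟨L, q, hL, hq⟩ := exists_epi_of_mem hgen hcolim hX.1
  obtain ⟨M, r, hM, hr⟩ := exists_epi_of_mem hgen hcolim (hX.2 _ _ q q (hqc _ hL) (hqc _ hL))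
  refine hiso (hcolim WalkingParallelPair
    (parallelPair (r ≫ pullback.fst q q) (r ≫ pullback.snd q q)) ?_) (nonempty_iso_coequalizer q r)
  rintro (_ | _)
  · exact hM
  · exact hL

/-- Members of a locally coherent generating class form a generating family of coherent objects. -/
theorem hasCoherentGenerators {S : Set (Sh J)} (hqc : ∀ K ∈ S, IsQC K) (hgen : IsGenerating S)
    (hpb : ClosedUnderPullbacks S) : HasCoherentGenerators J := by
  intro X
  obtain ⟨ι, F, π, hF, h⟩ := exists_js hgen X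
  exact ⟨ι, F, π, fun i => isCoherent_of_mem hqc hgen hpb (hF i), (js_iff_epi π).1 h⟩

end K223.Coeq
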