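import Groth.Agent.ToposFin.K223.Eps
import Mathlib.CategoryTheory.Sites.Pullback

/-!
# Inverse image of `eps J X` along a continuous functor is `eps K (G X)`
-/

set_option autoImplicit false
open CategoryTheory CategoryTheory.Limits Opposite
universe w u

namespace K223.EpsPull

open ToposFin Groth.Agent.Sga4A

variable {C : Type u} [SmallCategory C] {J : GrothendieckTopology C}

/-- Sections over `V` as a functor corepresented by `eps J V`. -/
noncomputable def epsCorep (V : C) :
    ((sheafToPresheaf J (Type u)) ⋙ (evaluation _ _).obj (op V)).CorepresentableBy (eps J V) where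
  homEquiv {Y} := ((sheafificationAdjunction J (Type u)).homEquiv _ Y).trans yonedaEquiv
  homEquiv_comp {Y Y'} g f := by
    simp only [Equiv.trans_apply]
    rw [Adjunction.homEquiv_naturality_right, yonedaEquiv_comp]
    rfl

variable {D : Type u} [SmallCategory D] {K : GrothendieckTopology D}

/-- Sections over `G.obj V` are corepresented by the inverse image of `eps J V`. -/
noncomputable def pullCorep (G : C ⥤ D) [Functor.IsContinuous G J K] (V : C) :
    ((sheafToPresheaf K (Type u)) ⋙ (evaluation _ _).obj (op (G.obj V))).CorepresentableBy
      ((G.sheafPullback (Type u) J K).obj (eps J V)) where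
  homEquiv {Y} := ((G.sheafAdjunctionContinuous (Type u) J K).homEquiv _ Y).trans
    ((epsCorep V).homEquiv (Y := (G.sheafPushforwardContinuous (Type u) J K).obj Y))
  homEquiv_comp {Y Y'} g f := by
    have h1 := (G.sheafAdjunctionContinuous (Type u) J K).homEquiv_naturality_right f g
    exact (congrArg (epsCorep V).homEquiv h1).trans
      ((epsCorep V).homEquiv_comp ((G.sheafPushforwardContinuous (Type u) J K).map g) _)

/-- The inverse image of `eps J V` is `eps K (G.obj V)`. -/
noncomputable def pullEpsIso (G : C ⥤ D) [Functor.IsContinuous G J K] (V : C) :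
    (G.sheafPullback (Type u) J K).obj (eps J V) ≅ eps K (G.obj V) :=
  (pullCorep G V).uniqueUpToIso (epsCorep (G.obj V))

end K223.EpsPull
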